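import Groth.Agent.Lib.DerCat.RFAcyclic

/-!
# Complexes whose terms have no low derived functors
-/

set_option autoImplicit false
set_option linter.style.haveILetI false
set_option linter.unusedSectionVars false

universe w w' v v' u u'

open CategoryTheory CategoryTheory.Limits

namespace Groth.Agent.Lib.LocCxDepth77.Complex

open DerCat.RFPlus DerCat.RFObj DerCat.RFAcyclic

variable {C : Type u} [Category.{v} C] [Abelian C] [EnoughInjectives C]
  {D : Type u'} [Category.{v'} D] [Abelian D] (F : C ⥤ D) [F.Additive] [PreservesFiniteLimits F]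
  [HasDerivedCategory.{w} C] [HasDerivedCategory.{w'} D]

/-- No derived functors in degrees `1, …, d - 1`. -/
def Low (d : ℕ) (X : C) : Prop := ∀ q : ℕ, 0 < q → q < d → IsZero ((F.rightDerived q).obj X)

variable {F}

lemma zero_of_low_succ {S : ShortComplex C} (hS : S.ShortExact) (q : ℕ)
    (h₁ : IsZero ((F.rightDerived (q + 1)).obj S.X₁)) (h₂ : IsZero ((F.rightDerived q).obj S.X₂)) :
    IsZero ((F.rightDerived q).obj S.X₃) := by
  obtain ⟨δ, w₁, w₂, w₃, -, e, -⟩ := exists_les (F := F) hS (q : ℤ)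
  exact (e.isZero_X₂ ((h₂.of_iso ((HRFNatIso F q).app S.X₂)).eq_of_src _ _)
    ((h₁.of_iso ((HRFNatIso F (q + 1)).app S.X₁)).eq_of_tgt _ _)).of_iso
      ((HRFNatIso F q).app S.X₃).symm

lemma epi_map_g {S : ShortComplex C} (hS : S.ShortExact) (h₁ : IsZero ((F.rightDerived 1).obj S.X₁)) :
    Epi (F.map S.g) := by
  obtain ⟨δ, w₁, w₂, w₃, -, e, -⟩ := exists_les (F := F) hS (0 : ℤ)
  haveI : Epi ((HRF F (0 : ℤ)).map S.g) :=
    e.epi_f ((h₁.of_iso ((HRFNatIso F 1).app S.X₁)).eq_of_tgt δ 0)
  exact ((MorphismProperty.epimorphisms D).arrow_mk_iso_iff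
    (((Functor.mapArrowFunctor _ _).mapIso (HRFNatIso F 0 ≪≫ F.rightDerivedZeroIsoSelf)).app
      (Arrow.mk S.g))).1 this

lemma exactAt_map_low (d : ℕ) (N : CochainComplex C ℤ) (a : ℤ) [N.IsStrictlyGE a] (hN : N.Acyclic)
    (hX : ∀ k, Low F d (N.X k)) (k : ℤ) (hk : k ≤ a + d) :
    ((F.mapHomologicalComplex (.up ℤ)).obj N).ExactAt k := by
  have hlo : ∀ j, j ≤ a → IsZero (N.cycles j) := fun j hj => by
    by_cases h : j < a
    · exact IsZero.of_mono (N.iCycles _) (CochainComplex.isZero_of_isStrictlyGE N a _ h)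
    · have := (cycSeq_shortExact N hN (j - 1)).epi_g
      have e : (j - 1) + 1 = j := by lia
      refine (e ▸ ?_ : IsZero (N.cycles j))
      exact IsZero.of_epi (N.toCycles (j - 1) (j - 1 + 1))
        (CochainComplex.isZero_of_isStrictlyGE N a _ (by lia))
  have hcyc : ∀ m : ℕ, ∀ q : ℕ, 0 < q → q + m ≤ d →
      IsZero ((F.rightDerived q).obj (N.cycles (a + m))) := fun m => by
    induction m with
    | zero =>
      intro q hq _
      have h0 : IsZero (N.cycles (a + ((0 : ℕ) : ℤ))) := hlo _ (by simp)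
      have := h0.injective
      exact (DerCat.RFAcyclic.acyc_injective F _) q hq
    | succ m ih =>
      intro q hq hm
      have h := zero_of_low_succ (cycSeq_shortExact N hN (a + m)) q
        (ih (q + 1) (by lia) (by lia)) (hX _ q hq (by lia))
      rw [show a + ((m + 1 : ℕ) : ℤ) = a + m + 1 by lia]
      exact h
  obtain ⟨i, rfl⟩ : ∃ i : ℤ, k = i + 1 := ⟨k - 1, by lia⟩
  have h1 : IsZero ((F.rightDerived 1).obj (N.cycles i)) := by
    by_cases hi : i < a
    · have := (hlo i hi.le).injective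
      exact (DerCat.RFAcyclic.acyc_injective F _) 1 one_pos
    · rw [show i = a + ((i - a).toNat : ℤ) by lia]
      exact hcyc _ 1 one_pos (by lia)
  have := epi_map_g (F := F) (cycSeq_shortExact N hN i) h1
  rw [HomologicalComplex.exactAt_iff' _ i (i + 1) (i + 2) (by simp) (by simp; lia)]
  let ψ : ((F.mapHomologicalComplex (.up ℤ)).obj N).sc' i (i + 1) (i + 2) ⟶
      ShortComplex.mk (F.map (N.iCycles (i + 1))) (F.map (N.d (i + 1) (i + 2)))
        (by rw [← F.map_comp, HomologicalComplex.iCycles_d, F.map_zero]) :=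
    { τ₁ := F.map (N.toCycles i (i + 1))
      τ₂ := 𝟙 _
      τ₃ := 𝟙 _
      comm₁₂ := ((F.map_comp _ _).symm.trans (congrArg F.map (N.toCycles_i i (i + 1)))).trans
        (Category.comp_id _).symm
      comm₂₃ := (Category.id_comp _).trans (Category.comp_id _).symm }
  haveI : Epi ψ.τ₁ := this
  haveI : IsIso ψ.τ₂ := inferInstanceAs (IsIso (𝟙 _))
  haveI : Mono ψ.τ₃ := inferInstanceAs (Mono (𝟙 _))
  exact (ShortComplex.exact_iff_of_epi_of_isIso_of_mono ψ).2 (ShortComplex.exact_of_f_is_kernel _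
    (KernelFork.mapIsLimit _ (N.cyclesIsKernel (i + 1) (i + 2) (by simp; lia)) F))

/-- A resolution of a complex in degrees `≥ d` whose terms have no derived functors below `d` has no
cohomology below `2d` after applying `F`. -/
theorem exactAt_map_resolution (d : ℕ) {K I : CochainComplex C ℤ} (φ : K ⟶ I) [QuasiIso φ]
    [K.IsStrictlyGE (d : ℤ)] [I.IsStrictlyGE (d : ℤ)] (hI : ∀ n, Injective (I.X n))
    (hK : ∀ i (q : ℕ), q < d → IsZero ((F.rightDerived q).obj (K.X i))) (n : ℤ) (hn : n < 2 * (d : ℤ)) :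
    ((F.mapHomologicalComplex (.up ℤ)).obj I).ExactAt n := by
  obtain rfl | hd := Nat.eq_zero_or_pos d
  · exact HomologicalComplex.ExactAt.of_isZero
      (F.map_isZero (CochainComplex.isZero_of_isStrictlyGE I ((0 : ℕ) : ℤ) _ (by simpa using hn)))
  have := CochainComplex.isStrictlyGE_mappingCone φ (d : ℤ) (d : ℤ) ((d : ℤ) - 1)
  have hX : ∀ k, Low F d ((CochainComplex.mappingCone φ).X k) := fun k q hq hqd => by
    refine IsZero.of_iso ?_ ((F.rightDerived q).mapIso
      (HomologicalComplex.homotopyCofiber.XIsoBiprod φ k (k + 1) rfl))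
    have := DerCat.RFObj.additive_rightDerived F q
    have : PreservesBinaryBiproduct (K.X (k + 1)) (I.X k) (F.rightDerived q) :=
      preservesBinaryBiproduct_of_preservesBiproduct _ _ _
    have := hI k
    exact ((biprod_isZero_iff _ _).2 ⟨hK _ q hqd, DerCat.RFAcyclic.acyc_injective F _ q hq⟩).of_iso
      ((F.rightDerived q).mapBiprod _ _)
  have hz : ∀ i, IsZero (F.obj (K.X i)) := fun i =>
    (hK i 0 hd).of_iso (F.rightDerivedZeroIsoSelf.app _).symm
  let g := (F.mapHomologicalComplex (.up ℤ)).map (CochainComplex.mappingCone.inr φ)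
  haveI : ∀ m, IsIso (g.f m) := fun m => by
    refine ⟨F.map ((CochainComplex.mappingCone.snd φ).v m m (add_zero m)), ?_, ?_⟩
    · refine (F.map_comp _ _).symm.trans ?_
      rw [CochainComplex.mappingCone.inr_f_snd_v, F.map_id]
      rfl
    · refine (F.map_comp _ _).symm.trans ?_
      have h : (CochainComplex.mappingCone.fst φ).1.v m (m + 1) rfl ≫
          (CochainComplex.mappingCone.inl φ).v (m + 1) m (by lia) +
          (CochainComplex.mappingCone.snd φ).v m m (add_zero m) ≫
            (CochainComplex.mappingCone.inr φ).f m = 𝟙 _ :=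
        CochainComplex.mappingCone.id_X φ m (m + 1) rfl
      have h0 : F.map ((CochainComplex.mappingCone.fst φ).1.v m (m + 1) rfl) = 0 := (hz _).eq_of_tgt _ _
      have := congrArg F.map h
      rw [F.map_add, F.map_comp, h0, zero_comp, zero_add, F.map_id] at this
      exact this
  haveI : IsIso g := HomologicalComplex.Hom.isIso_of_components _
  exact HomologicalComplex.ExactAt.of_iso
    (exactAt_map_low d _ ((d : ℤ) - 1) ((quasiIso_iff_acyclic_mappingCone φ).1 inferInstance) hX n (by lia))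
    (asIso g).symm

end Groth.Agent.Lib.LocCxDepth77.Complex
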