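import Groth.Prelude.Def_CohTop
import Mathlib.Topology.Sheaves.Flasque
import Mathlib.Algebra.Homology.ShortComplex.PreservesHomology
import Mathlib.Algebra.Homology.HomologicalComplexLimits
import Mathlib.Algebra.Homology.Embedding.CochainComplex

/-!
# Sections of the first non-zero cohomology sheaf of a complex of flasque sheaves
-/

set_option autoImplicit false
set_option linter.style.haveILetI false
set_option linter.unusedSectionVars false

universe u

open CategoryTheory CategoryTheory.Limits Opposite TopologicalSpace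

namespace Groth.Agent.Lib.LocCxDepth77.Flasque

variable {T : TopCat.{u}}

/-- Sections over an open. -/
noncomputable abbrev sec (V : Opens T) : CohTop.Ab T ⥤ AddCommGrpCat.{u} :=
  sheafToPresheaf (Opens.grothendieckTopology T) AddCommGrpCat.{u} ⋙ (evaluation _ _).obj (op V)

instance preservesFiniteLimits_sec (V : Opens T) : PreservesFiniteLimits (sec V) := by
  haveI : PreservesFiniteLimits ((evaluation (Opens T)ᵒᵖ AddCommGrpCat.{u}).obj (op V)) :=
    ⟨fun J _ _ => inferInstance⟩
  exact comp_preservesFiniteLimits _ _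

theorem isFlasque_of_isZero {F : CohTop.Ab T} (h : IsZero F) : TopCat.Sheaf.IsFlasque F where
  epi {A B} g := IsZero.epi (Functor.map_isZero ((sheafToPresheaf _ _) ⋙ (evaluation _ _).obj B) h) _

variable (A : CochainComplex (CohTop.Ab T) ℤ) (a N : ℤ) [A.IsStrictlyGE a]

/-- The cycle sequence at an exact spot. -/
lemma cyc_shortExact (i : ℤ) (h : A.ExactAt (i + 1)) :
    (ShortComplex.mk (A.iCycles i) (A.toCycles i (i + 1))
      (by rw [← cancel_mono (A.iCycles (i + 1)), Category.assoc, HomologicalComplex.toCycles_i,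
        HomologicalComplex.iCycles_d, zero_comp])).ShortExact := by
  have : Epi (A.toCycles i (i + 1)) :=
    Preadditive.epi_of_isZero_cokernel' _ (A.homologyIsCokernel i (i + 1) (by simp))
      ((A.exactAt_iff_isZero_homology (i + 1)).1 h)
  refine ShortComplex.ShortExact.mk' ?_ inferInstance this
  let φ : ShortComplex.mk (A.iCycles i) (A.toCycles i (i + 1))
      (by rw [← cancel_mono (A.iCycles (i + 1)), Category.assoc, HomologicalComplex.toCycles_i,
        HomologicalComplex.iCycles_d, zero_comp]) ⟶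
      ShortComplex.mk (A.iCycles i) (A.d i (i + 1)) (A.iCycles_d i (i + 1)) :=
    { τ₁ := 𝟙 _
      τ₂ := 𝟙 _
      τ₃ := A.iCycles (i + 1)
      comm₁₂ := (Category.id_comp _).trans (Category.comp_id _).symm
      comm₂₃ := (Category.id_comp _).trans (A.toCycles_i i (i + 1)).symm }
  exact (ShortComplex.exact_iff_of_epi_of_isIso_of_mono φ).2
    (ShortComplex.exact_of_f_is_kernel _ (A.cyclesIsKernel i (i + 1) (by simp)))

include a in
theorem isFlasque_cycles (hex : ∀ n, n < N → A.ExactAt n) (hfl : ∀ n, TopCat.Sheaf.IsFlasque (A.X n))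
    (j : ℤ) (hj : j < N) : TopCat.Sheaf.IsFlasque (A.cycles j) := by
  have hz : ∀ j, j < a → TopCat.Sheaf.IsFlasque (A.cycles j) := fun j hj =>
    isFlasque_of_isZero (IsZero.of_mono (A.iCycles _) (CochainComplex.isZero_of_isStrictlyGE A a _ hj))
  have hc : ∀ m : ℕ, a - 1 + m < N → TopCat.Sheaf.IsFlasque (A.cycles (a - 1 + m)) := fun m => by
    induction m with
    | zero => exact fun _ => hz _ (by lia)
    | succ m ih =>
      intro hm
      rw [show a - 1 + ((m + 1 : ℕ) : ℤ) = a - 1 + m + 1 by lia]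
      haveI := ih (by lia)
      haveI := hfl (a - 1 + m)
      exact TopCat.Sheaf.IsFlasque.of_shortExact_of_isFlasque₁₂
        (cyc_shortExact A _ (hex _ (by lia)))
  by_cases h : j < a
  · exact hz j h
  · rw [show j = a - 1 + ((j - a + 1).toNat : ℤ) by lia]
    exact hc _ (by lia)

include a in
/-- `H^N(Γ A) ≅ Γ(H^N A)` when `A` is flasque and exact below `N`. -/
theorem nonempty_iso (hex : ∀ n, n < N → A.ExactAt n) (hfl : ∀ n, TopCat.Sheaf.IsFlasque (A.X n))
    (V : Opens T) :
    Nonempty ((((sec V).mapHomologicalComplex (ComplexShape.up ℤ)).obj A).homology N ≅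
      (sec V).obj (A.homology N)) := by
  obtain ⟨M, rfl⟩ : ∃ M : ℤ, N = M + 1 := ⟨N - 1, by lia⟩
  have hBex : (ShortComplex.mk (A.toCycles M (M + 1)) (A.homologyπ (M + 1)) (A.toCycles_comp_homologyπ M (M + 1))).Exact :=
    ShortComplex.exact_of_g_is_cokernel _ (A.homologyIsCokernel M (M + 1) (by simp))
  let B := kernel (A.homologyπ (M + 1))
  let p : A.X M ⟶ B := kernel.lift _ (A.toCycles M (M + 1)) (A.toCycles_comp_homologyπ M (M + 1))
  haveI : Epi p := hBex.epi_kernelLift
  have hp : p ≫ kernel.ι (A.homologyπ (M + 1)) = A.toCycles M (M + 1) := kernel.lift_ι _ _ _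
  have hw : A.iCycles M ≫ p = 0 := by
    rw [← cancel_mono (kernel.ι (A.homologyπ (M + 1))), Category.assoc, hp,
      ← cancel_mono (A.iCycles (M + 1)), Category.assoc, HomologicalComplex.toCycles_i,
      HomologicalComplex.iCycles_d, zero_comp, zero_comp]
  have hS₁ : (ShortComplex.mk (A.iCycles M) p hw).ShortExact := by
    refine ShortComplex.ShortExact.mk' ?_ inferInstance inferInstance
    let φ : ShortComplex.mk (A.iCycles M) p hw ⟶
        ShortComplex.mk (A.iCycles M) (A.d M (M + 1)) (A.iCycles_d M (M + 1)) :=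
      { τ₁ := 𝟙 _
        τ₂ := 𝟙 _
        τ₃ := kernel.ι (A.homologyπ (M + 1)) ≫ A.iCycles (M + 1)
        comm₁₂ := (Category.id_comp _).trans (Category.comp_id _).symm
        comm₂₃ := by
          refine (Category.id_comp _).trans ?_
          rw [← Category.assoc, hp, HomologicalComplex.toCycles_i] }
    haveI : Mono φ.τ₃ := mono_comp _ _
    haveI : Epi φ.τ₁ := inferInstanceAs (Epi (𝟙 _))
    haveI : IsIso φ.τ₂ := inferInstanceAs (IsIso (𝟙 _))
    exact (ShortComplex.exact_iff_of_epi_of_isIso_of_mono φ).2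
      (ShortComplex.exact_of_f_is_kernel _ (A.cyclesIsKernel M (M + 1) (by simp)))
  haveI : TopCat.Sheaf.IsFlasque (A.cycles M) := isFlasque_cycles A a (M + 1) hex hfl M (by lia)
  haveI := hfl M
  haveI : TopCat.Sheaf.IsFlasque B := TopCat.Sheaf.IsFlasque.of_shortExact_of_isFlasque₁₂ hS₁
  haveI hpV : Epi ((sec V).map p) := TopCat.Sheaf.IsFlasque.epi_of_shortExact hS₁
  let S₂ := ShortComplex.mk (kernel.ι (A.homologyπ (M + 1))) (A.homologyπ (M + 1)) (kernel.condition _)
  have hS₂ : S₂.ShortExact :=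
    ShortComplex.ShortExact.mk' (ShortComplex.exact_of_f_is_kernel _ (kernelIsKernel _)) inferInstance inferInstance
  haveI : TopCat.Sheaf.IsFlasque S₂.X₁ := inferInstanceAs (TopCat.Sheaf.IsFlasque B)
  haveI hπV : Epi ((sec V).map (A.homologyπ (M + 1))) := TopCat.Sheaf.IsFlasque.epi_of_shortExact hS₂
  let w : (sec V).map (A.toCycles M (M + 1)) ≫ (sec V).map (A.homologyπ (M + 1)) = 0 := by
    rw [← (sec V).map_comp, A.toCycles_comp_homologyπ, (sec V).map_zero]
  have hexV : (ShortComplex.mk _ _ w).Exact := by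
    let ψ : ShortComplex.mk _ _ w ⟶ S₂.map (sec V) :=
      { τ₁ := (sec V).map p
        τ₂ := 𝟙 _
        τ₃ := 𝟙 _
        comm₁₂ := ((sec V).map_comp _ _).symm.trans ((congrArg (sec V).map hp).trans (Category.comp_id _).symm)
        comm₂₃ := (Category.id_comp _).trans (Category.comp_id _).symm }
    haveI : Epi ψ.τ₁ := hpV
    haveI : IsIso ψ.τ₂ := inferInstanceAs (IsIso (𝟙 _))
    haveI : Mono ψ.τ₃ := inferInstanceAs (Mono (𝟙 _))
    exact (ShortComplex.exact_iff_of_epi_of_isIso_of_mono ψ).2
      (ShortComplex.Exact.map_of_mono_of_preservesKernel hS₂.exact _ hS₂.mono_f inferInstance)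
  let C := ((sec V).mapHomologicalComplex (ComplexShape.up ℤ)).obj A
  let wi : (sec V).map (A.iCycles (M + 1)) ≫ C.d (M + 1) (M + 2) = 0 := by
    exact ((sec V).map_comp _ _).symm.trans
      ((congrArg (sec V).map (A.iCycles_d (M + 1) (M + 2))).trans ((sec V).map_zero _ _))
  let hi : IsLimit (KernelFork.ofι ((sec V).map (A.iCycles (M + 1))) wi) :=
    KernelFork.mapIsLimit _ (A.cyclesIsKernel (M + 1) (M + 2) (by simp; lia)) (sec V)
  have hf' : hi.lift (KernelFork.ofι (C.d M (M + 1)) (C.d_comp_d M (M + 1) (M + 2))) =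
      (sec V).map (A.toCycles M (M + 1)) := by
    refine Fork.IsLimit.hom_ext hi ((hi.fac _ WalkingParallelPair.zero).trans ?_)
    exact (congrArg (sec V).map (A.toCycles_i M (M + 1))).symm.trans ((sec V).map_comp _ _)
  have hex' : ∀ (f : C.X M ⟶ (sec V).obj (A.cycles (M + 1))) (_ : f = (sec V).map (A.toCycles M (M + 1)))
      (w' : f ≫ (sec V).map (A.homologyπ (M + 1)) = 0), (ShortComplex.mk f _ w').Exact := by
    intro f e w'
    subst e
    exact hexV
  refine ⟨C.homologyIsoSc' M (M + 1) (M + 2) (by simp) (by simp; lia) ≪≫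
    ShortComplex.LeftHomologyData.homologyIso
      { K := (sec V).obj (A.cycles (M + 1))
        H := (sec V).obj (A.homology (M + 1))
        i := (sec V).map (A.iCycles (M + 1))
        π := (sec V).map (A.homologyπ (M + 1))
        wi := wi
        hi := hi
        wπ := (congrArg (· ≫ _) hf').trans w
        hπ := haveI : Epi (ShortComplex.mk _ _ ((congrArg (· ≫ _) hf').trans w)).g := hπV; (hex' _ hf' _).gIsCokernel }⟩

end Groth.Agent.Lib.LocCxDepth77.Flasque
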