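import Groth.Prelude.Def_CxOX
import Groth.Agent.H30.RightAcyc
import Groth.Agent.H30.LocZ.SectionsTop
import Groth.Agent.H30.LocZ.DepthStalk
import Groth.Agent.Lib.LocCohSS.Basic
import Groth.Agent.Lib.CohDelta.Flasque
import Groth.Agent.Lib.LocCohLC.Supp
import Groth.Agent.Lib.DerivedOX.GammaZTriangle
import Groth.Agent.H30.LocZ.QCohLC

/-!
# Low cohomology with supports of a module on the whole scheme
-/

set_option autoImplicit false
set_option linter.style.haveILetI false
set_option linter.unusedSectionVars false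

universe u

open CategoryTheory CategoryTheory.Limits AlgebraicGeometry Opposite TopologicalSpace

namespace Groth.Agent.Lib.LocCxDepth77.Sections

open Abelian

variable {U X : Scheme.{u}} (j : U ⟶ X) [IsOpenImmersion j]

instance preservesFiniteLimits_gammaAb : PreservesFiniteLimits (DCoh.gammaAb X) := by
  haveI : PreservesFiniteLimits (Scheme.Modules.toPresheaf X) :=
    inferInstanceAs (PreservesFiniteLimits
      (SheafOfModules.toSheaf X.ringCatSheaf ⋙ sheafToPresheaf _ _))
  haveI : PreservesFiniteLimits ((evaluation (TopologicalSpace.Opens ↥X)ᵒᵖ AddCommGrpCat.{u}).obj (op ⊤)) :=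
    ⟨fun J _ _ => inferInstance⟩
  exact comp_preservesFiniteLimits _ _

instance preservesFiniteLimits_sectZAb : PreservesFiniteLimits (CxOX.sectZAb j) := by
  haveI : PreservesFiniteLimits (DCoh.gammaZ j) :=
    Groth.Agent.H30.LocZ.QCohLC.gammaZ_preservesFiniteLimits j
  exact comp_preservesFiniteLimits _ _

/-- Supported sections inside all sections. -/
noncomputable abbrev val (M : X.Modules) :
    (CxOX.sectZAb j).obj M ⟶ (DCoh.gammaAb X).obj M :=
  (DCoh.gammaAb X).map ((CxOX.gammaZι j).app M)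

lemma val_injective (M : X.Modules) : Function.Injective (val j M) := by
  haveI : Mono ((CxOX.gammaZι j).app M) := equalizer.ι_mono
  exact (AddCommGrpCat.mono_iff_injective _).1 ((DCoh.gammaAb X).map_mono _)

/-- The exact sequence `0 → Γ_Z M → M → j_* j^* M`. -/
lemma gammaZι_unit (M : X.Modules) :
    (CxOX.gammaZι j).app M ≫ (Scheme.Modules.restrictAdjunction j).unit.app M = 0 :=
  kernel.condition _

lemma val_mem (M : X.Modules) (x : (CxOX.sectZAb j).obj M) :
    M.presheaf.map (homOfLE (le_top : j.opensRange ≤ ⊤)).op (val j M x) = 0 := by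
  have h := ConcreteCategory.congr_hom
    (((DCoh.gammaAb X).map_comp _ _).symm.trans
      ((congrArg (DCoh.gammaAb X).map (gammaZι_unit j M)).trans ((DCoh.gammaAb X).map_zero _ _))) x
  have h' : M.presheaf.map (homOfLE (j.image_preimage_le ⊤)).op (val j M x) = 0 := h
  exact Groth.Agent.Lib.LocCohLC.Supp.vanish M.presheaf (homOfLE (j.image_preimage_le ⊤)).op
    (eqToHom (Scheme.Hom.image_top_eq_opensRange j).symm).op _ _ h'

set_option maxHeartbeats 1000000 in
lemma exists_val_eq (M : X.Modules) (s : Γ(M, ⊤))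
    (hs : M.presheaf.map (homOfLE (le_top : j.opensRange ≤ ⊤)).op s = 0) :
    ∃ x, val j M x = s := by
  let S := ShortComplex.mk ((CxOX.gammaZι j).app M)
    ((Scheme.Modules.restrictAdjunction j).unit.app M) (gammaZι_unit j M)
  have hS : (S.map (DCoh.gammaAb X)).Exact := by
    haveI : Mono S.f := equalizer.ι_mono
    exact ShortComplex.Exact.map_of_mono_of_preservesKernel
      (ShortComplex.exact_of_f_is_kernel _ (kernelIsKernel _)) _ inferInstance inferInstance
  rw [ShortComplex.ab_exact_iff] at hS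
  have h0 : M.presheaf.map (homOfLE (j.image_preimage_le ⊤)).op s = 0 :=
    Groth.Agent.Lib.LocCohLC.Supp.vanish M.presheaf (homOfLE le_top).op
      (eqToHom (Scheme.Hom.image_top_eq_opensRange j)).op _ s hs
  have h1 : ((DCoh.gammaAb X).map ((Scheme.Modules.restrictAdjunction j).unit.app M)) s = 0 := h0
  exact hS s h1

/-- `ℤ_X/ℤ_U`. -/
noncomputable abbrev Z : CohTop.Ab X.carrier :=
  LocCohZ.zq (X := X.carrier) (le_top : j.opensRange ≤ ⊤)

lemma isZero_sectZAb {M : X.Modules} (h : Subsingleton (LocCohZ.HZM X M 0 j.opensRange)) :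
    IsZero ((CxOX.sectZAb j).obj M) := by
  haveI : Subsingleton ((CxOX.sectZAb j).obj M) := by
    refine subsingleton_of_forall_eq 0 fun x => val_injective j M ?_
    rw [map_zero]
    haveI := (LocCohZ.sect0Equiv (Coh.toAb M) (le_top : j.opensRange ≤ ⊤)).toEquiv.subsingleton_congr.1 h
    exact congrArg Subtype.val (Subsingleton.elim (⟨val j M x, val_mem j M x⟩ :
      LocCohZ.sectZ (Coh.toAb M) (le_top : j.opensRange ≤ ⊤)) 0)
  exact AddCommGrpCat.isZero_of_subsingleton _

lemma homZq_comp {T : TopCat.{u}} {W V : Opens T} (h : W ≤ V) {F G : CohTop.Ab T}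
    (b : LocCohZ.zq h ⟶ F) (φ : F ⟶ G) :
    (Groth.Agent.Lib.LocCohSS.Basic.homZqEquiv h G (b ≫ φ)).1 =
      φ.hom.app (op V) (Groth.Agent.Lib.LocCohSS.Basic.homZqEquiv h F b).1 :=
  (congrArg (Groth.Agent.Lib.SiteCoh.Basic.homEquiv V G) (Category.assoc _ b φ).symm).trans
    (Groth.Agent.Lib.SiteCoh.Basic.homEquiv_comp _ φ)

lemma zero_comp' {C : Type*} [Category C] [CategoryTheory.Abelian C] [HasExt.{u} C] {A B D : C} (n : ℕ)
    (β : Ext.{u} B D 0) : (0 : Ext.{u} A B n).comp β (add_zero n) = 0 := by simp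

variable [HasInjectiveResolutions X.Modules]

/-- The derived functors of supported sections vanish where cohomology with supports does. -/
theorem isZero_rightDerived (M : X.Modules) (d : ℕ)
    (h : ∀ i, i < d → Subsingleton (LocCohZ.HZM X M i j.opensRange)) (q : ℕ) (hq : q < d) :
    IsZero (((CxOX.sectZAb j).rightDerived q).obj M) := by
  match q, hq with
  | 0, hq => exact (isZero_sectZAb j (h 0 hq)).of_iso ((CxOX.sectZAb j).rightDerivedZeroIsoSelf.app M)
  | k + 1, hk =>
    let P := injectiveResolution M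
    let T := Groth.Agent.Lib.LocCohLC.Supp.ab X
    let S := fun k => (Groth.Agent.Lib.EtJ.RightAcyclic.seq P k).map T
    have hS : ∀ k, (S k).ShortExact := fun k =>
      (Groth.Agent.Lib.EtJ.RightAcyclic.seq_shortExact P k).map_of_exact T
    have hI : ∀ k n, Subsingleton (Ext.{u} (Z j) (S k).X₂ (n + 1)) := fun k n => by
      haveI := P.injective k
      haveI : TopCat.Sheaf.IsFlasque (S k).X₂ := CohDelta.Flasque.isFlasque_toAb (P.cocomplex.X k)
      exact Groth.Agent.Lib.LocCohSS.Basic.subsingleton_HZ_flasque (X := X.carrier) (S k).X₂ le_top n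
    have hc : ∀ m, ∀ i, i + m + 1 < d → Subsingleton (Ext.{u} (Z j) (S m).X₁ (i + 1)) := by
      intro m
      induction m with
      | zero =>
        intro i hi
        let e : Coh.toAb M ≅ (S 0).X₁ := T.mapIso (Groth.Agent.Lib.EtJ.RightAcyclic.isoCyc₀ P)
        haveI := h (i + 1) (by omega)
        refine subsingleton_of_forall_eq 0 fun x => ?_
        have hx : x.comp (Ext.mk₀ e.inv) (add_zero _) = 0 := @Subsingleton.elim _ (h (i + 1) (by omega)) _ _
        have := congrArg (fun y => y.comp (Ext.mk₀ e.hom) (add_zero _)) hx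
        simpa [Ext.comp_assoc_of_third_deg_zero, Ext.mk₀_comp_mk₀] using this
      | succ m ih =>
        intro i hi
        refine subsingleton_of_forall_eq 0 fun x => ?_
        haveI := ih (i + 1) (by omega)
        obtain ⟨y, rfl⟩ := Ext.covariant_sequence_exact₃ (Z j) (hS m) x (n₁ := i + 1 + 1) rfl
          (Subsingleton.elim _ _)
        haveI := hI m i
        have hy0 : y = 0 := Subsingleton.elim _ _
        subst hy0
        exact zero_comp' (i + 1) _
    haveI : Epi ((CxOX.sectZAb j).map (Groth.Agent.Lib.EtJ.RightAcyclic.seq P k).g) := by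
      rw [AddCommGrpCat.epi_iff_surjective]
      intro x
      let σ := (Groth.Agent.Lib.EtJ.RightAcyclic.seq P k)
      let s : LocCohZ.sectZ (Coh.toAb σ.X₃) (le_top : j.opensRange ≤ ⊤) :=
        ⟨val j σ.X₃ x, val_mem j σ.X₃ x⟩
      let a := (Groth.Agent.Lib.LocCohSS.Basic.homZqEquiv (le_top : j.opensRange ≤ ⊤) (Coh.toAb σ.X₃)).symm s
      haveI := hc k 0 (by omega)
      obtain ⟨y, hy⟩ := Ext.covariant_sequence_exact₃ (Z j) (hS k) (Ext.mk₀ a) (n₁ := 1) rfl
        (Subsingleton.elim _ _)
      obtain ⟨b, rfl⟩ := (Ext.mk₀_bijective _ _).2 y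
      rw [Ext.mk₀_comp_mk₀] at hy
      have hab : b ≫ T.map σ.g = a := (Ext.mk₀_bijective _ _).1 hy
      let t := Groth.Agent.Lib.LocCohSS.Basic.homZqEquiv (le_top : j.opensRange ≤ ⊤) (Coh.toAb σ.X₂) b
      obtain ⟨z, hz⟩ := exists_val_eq j σ.X₂ t.1 t.2
      refine ⟨z, val_injective j σ.X₃ ?_⟩
      have hn := ConcreteCategory.congr_hom (congrArg (DCoh.gammaAb X).map ((CxOX.gammaZι j).naturality σ.g)) z
      rw [Functor.map_comp, Functor.map_comp] at hn
      refine hn.trans ?_
      change (DCoh.gammaAb X).map σ.g (val j σ.X₂ z) = _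
      rw [hz]
      have ha : (Groth.Agent.Lib.LocCohSS.Basic.homZqEquiv (le_top : j.opensRange ≤ ⊤) (Coh.toAb σ.X₃) a).1 =
          val j σ.X₃ x :=
        congrArg Subtype.val (AddEquiv.apply_symm_apply _ _)
      rw [← hab] at ha
      exact ((homZq_comp (T := X.carrier) _ b (T.map σ.g)).symm.trans ha)
    exact Groth.Agent.H30.RightAcyc.isZero_rightDerived P (CxOX.sectZAb j) k this

end Groth.Agent.Lib.LocCxDepth77.Sections
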