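import Groth.Agent.Lib.LocCxDepth77.Complex
import Groth.Agent.Lib.LocCxDepth77.Sections
import Groth.Agent.Lib.DerivedOX.Exists
import Mathlib.Algebra.Homology.DerivedCategory.KInjective

/-!
# Vanishing of cohomology with supports of complexes of locally free modules
-/

set_option autoImplicit false
set_option linter.style.haveILetI false
set_option linter.unusedSectionVars false

universe u

open CategoryTheory CategoryTheory.Limits AlgebraicGeometry Opposite TopologicalSpace

attribute [local instance] HasDerivedCategory.standard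

namespace Groth.Agent.Lib.LocCxDepth77.Main

open Groth.Agent.Lib.DerivedOX

variable {U X : Scheme.{u}} (j : U ⟶ X) [IsOpenImmersion j]

theorem subsingleton_HZM [IsLocallyNoetherian X] (d : ℕ)
    (hdepth : ∀ y : ↥X, y ∉ Set.range j.base →
      (d : ℕ∞) ≤ LocCoh.depth ↑(X.presheaf.stalk y) ↑(X.presheaf.stalk y))
    {M : X.Modules} (hM : FlatMod.IsFinLocFree M) (i : ℕ) (hi : i < d) :
    Subsingleton (LocCohZ.HZM X M i j.opensRange) := by
  have h := Groth.Agent.H30.LocZ.Vanish.subsingleton_HZ_of_isZero_HZsh (X := X.carrier) j.opensRange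
    (Coh.toAb M) d
    ((Groth.Agent.H30.LocZ.DepthStalk.isZero_HZsh_below_iff j.opensRange
      (Groth.Agent.Lib.Perfect.Coherent.isCoh_of_isFinLocFree hM) d).2
      fun x hx => Groth.Agent.H30.LocZ.SectionsTop.le_depth_stalk hM x d
        (hdepth x (by simpa using hx))) (⊤ : X.Opens) i hi
  have key : ∀ (W : X.Opens) (hW : W ≤ ⊤), W = j.opensRange →
      Subsingleton (LocCohZ.HZ (X := X.carrier) (Coh.toAb M) i hW) →
      Subsingleton (LocCohZ.HZM X M i j.opensRange) := fun W hW e hs => by subst e; exact hs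
  exact key _ inf_le_left (top_inf_eq _) h

/-- Derived functors are computed by K-injective complexes. -/
noncomputable def homologyIso {B : Type (u + 1)} [Category.{u} B] [Abelian B] (G : X.Modules ⥤ B)
    [G.Additive]
    [(G.mapHomotopyCategory (ComplexShape.up ℤ) ⋙ DerivedCategory.Qh).HasRightDerivedFunctor
      (HomotopyCategory.quasiIso X.Modules (ComplexShape.up ℤ))]
    {K I : CochainComplex X.Modules ℤ} (φ : K ⟶ I) [QuasiIso φ] [I.IsKInjective] (n : ℤ) :
    (DerivedCategory.homologyFunctor B n).obj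
      (((G.mapHomotopyCategory (ComplexShape.up ℤ) ⋙ DerivedCategory.Qh).totalRightDerived DerivedCategory.Qh
        (HomotopyCategory.quasiIso X.Modules (ComplexShape.up ℤ))).obj (DerivedCategory.Q.obj K)) ≅
      ((G.mapHomologicalComplex (ComplexShape.up ℤ)).obj I).homology n :=
  let Φ := G.mapHomotopyCategory (ComplexShape.up ℤ) ⋙ DerivedCategory.Qh
  let R := Φ.totalRightDerived DerivedCategory.Qh (HomotopyCategory.quasiIso X.Modules (ComplexShape.up ℤ))
  (DerivedCategory.homologyFunctor B n).mapIso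
    (R.mapIso (asIso (DerivedCategory.Q.map φ) ≪≫
        ((DerivedCategory.quotientCompQhIso X.Modules).app I).symm) ≪≫
      (@asIso _ _ _ _ ((Φ.totalRightDerivedUnit DerivedCategory.Qh
        (HomotopyCategory.quasiIso X.Modules (ComplexShape.up ℤ))).app
          ((HomotopyCategory.quotient X.Modules (ComplexShape.up ℤ)).obj I))
        (RightDerived.isIso_totalRightDerivedUnit_app_of_isKInjective Φ I)).symm ≪≫
      (DerivedCategory.quotientCompQhIso B).app ((G.mapHomologicalComplex (ComplexShape.up ℤ)).obj I)) ≪≫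
    (DerivedCategory.homologyFunctorFactors B n).app _

theorem exactAt_sectZ [IsLocallyNoetherian X] (d : ℕ)
    (hdepth : ∀ y : ↥X, y ∉ Set.range j.base →
      (d : ℕ∞) ≤ LocCoh.depth ↑(X.presheaf.stalk y) ↑(X.presheaf.stalk y))
    {K I : CochainComplex X.Modules ℤ} (φ : K ⟶ I) [QuasiIso φ]
    [K.IsStrictlyGE (d : ℤ)] [I.IsStrictlyGE (d : ℤ)] (hI : ∀ n, Injective (I.X n))
    (hKlf : ∀ i : ℤ, FlatMod.IsFinLocFree (K.X i)) (n : ℤ) (hn : n < 2 * (d : ℤ)) :
    (((CxOX.sectZAb j).mapHomologicalComplex (ComplexShape.up ℤ)).obj I).ExactAt n :=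
  Complex.exactAt_map_resolution d φ hI
    (fun i q hq => Sections.isZero_rightDerived j (K.X i) d
      (fun i' hi' => subsingleton_HZM j d hdepth (hKlf i) i' hi') q hq) n hn

end Groth.Agent.Lib.LocCxDepth77.Main
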