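import Groth.Agent.Lib.LocCxDepth77.Main
import Groth.Agent.Lib.LocCxDepth77.SectionsAt
import Groth.Agent.Lib.LocCxDepth77.Flasque
import Groth.Agent.Lib.InjMod.Torsion

/-!
# The first non-zero local cohomology sheaf and its sections
-/

set_option autoImplicit false
set_option linter.style.haveILetI false
set_option linter.unusedSectionVars false

universe u

open CategoryTheory CategoryTheory.Limits AlgebraicGeometry Opposite TopologicalSpace

attribute [local instance] HasDerivedCategory.standard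

namespace Groth.Agent.Lib.LocCxDepth77.SheafLevel

variable {U X : Scheme.{u}} (j : U ⟶ X) [IsOpenImmersion j]

theorem exact_of_sections (S : ShortComplex X.Modules)
    (h : ∀ V : X.Opens, (S.map (SectionsAt.secV V)).Exact) : S.Exact := by
  rw [S.exact_iff_epi_kernel_lift]
  haveI : ∀ V, Epi (((Scheme.Modules.toPresheaf X).map (kernel.lift S.g S.f S.zero)).app V) := fun V => by
    have hV := h V.unop
    rw [ShortComplex.exact_iff_epi_kernel_lift] at hV
    have e : (SectionsAt.secV V.unop).map (kernel.lift S.g S.f S.zero) ≫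
        kernelComparison S.g (SectionsAt.secV V.unop) =
        kernel.lift ((SectionsAt.secV V.unop).map S.g) ((SectionsAt.secV V.unop).map S.f)
          (by rw [← Functor.map_comp, S.zero, Functor.map_zero]) := by
      rw [← cancel_mono (kernel.ι ((SectionsAt.secV V.unop).map S.g)), Category.assoc,
        kernelComparison_comp_ι, ← Functor.map_comp, kernel.lift_ι, kernel.lift_ι]
    haveI : Epi ((SectionsAt.secV V.unop).map (kernel.lift S.g S.f S.zero) ≫
        kernelComparison S.g (SectionsAt.secV V.unop)) := e ▸ hV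
    exact (epi_comp_iff_of_isIso _ (kernelComparison S.g (SectionsAt.secV V.unop))).1 this
  haveI : Epi ((Scheme.Modules.toPresheaf X).map (kernel.lift S.g S.f S.zero)) := NatTrans.epi_of_epi_app _
  exact (Scheme.Modules.toPresheaf X).epi_of_epi_map this

theorem exactAt_gammaZ [IsLocallyNoetherian X] (d : ℕ)
    (hdepth : ∀ y : ↥X, y ∉ Set.range j.base →
      (d : ℕ∞) ≤ LocCoh.depth ↑(X.presheaf.stalk y) ↑(X.presheaf.stalk y))
    {K I : CochainComplex X.Modules ℤ} (φ : K ⟶ I) [QuasiIso φ]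
    [K.IsStrictlyGE (d : ℤ)] [I.IsStrictlyGE (d : ℤ)] (hI : ∀ n, Injective (I.X n))
    (hKlf : ∀ i : ℤ, FlatMod.IsFinLocFree (K.X i)) (n : ℤ) (hn : n < 2 * (d : ℤ)) :
    (((DCoh.gammaZ j).mapHomologicalComplex (ComplexShape.up ℤ)).obj I).ExactAt n := by
  rw [HomologicalComplex.exactAt_iff]
  refine exact_of_sections _ fun V => ?_
  exact (HomologicalComplex.exactAt_iff _ _).1
    (Complex.exactAt_map_resolution (F := SectionsAt.sectV j V) d φ hI
      (fun i q hq => SectionsAt.isZero_rightDerived j V (K.X i) d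
        (fun i' hi' => Groth.Agent.H30.LocZ.Vanish.subsingleton_HZ_of_isZero_HZsh (X := X.carrier) j.opensRange
          (Coh.toAb (K.X i)) d
          ((Groth.Agent.H30.LocZ.DepthStalk.isZero_HZsh_below_iff j.opensRange
            (Groth.Agent.Lib.Perfect.Coherent.isCoh_of_isFinLocFree (hKlf i)) d).2
            fun x hx => Groth.Agent.H30.LocZ.SectionsTop.le_depth_stalk (hKlf i) x d
              (hdepth x (by simpa using hx))) V i' hi') q hq) n hn)

theorem nonempty_sections_iso [IsLocallyNoetherian X] (d : ℕ)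
    (hdepth : ∀ y : ↥X, y ∉ Set.range j.base →
      (d : ℕ∞) ≤ LocCoh.depth ↑(X.presheaf.stalk y) ↑(X.presheaf.stalk y))
    {K I : CochainComplex X.Modules ℤ} (φ : K ⟶ I) [QuasiIso φ]
    [K.IsStrictlyGE (d : ℤ)] [I.IsStrictlyGE (d : ℤ)] (hI : ∀ n, Injective (I.X n))
    (hKlf : ∀ i : ℤ, FlatMod.IsFinLocFree (K.X i)) :
    Nonempty ((DCoh.gammaAb X).obj
        ((((DCoh.gammaZ j).mapHomologicalComplex (ComplexShape.up ℤ)).obj I).homology (2 * (d : ℤ))) ≅
      (((CxOX.sectZAb j).mapHomologicalComplex (ComplexShape.up ℤ)).obj I).homology (2 * (d : ℤ))) := by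
  let C := ((DCoh.gammaZ j).mapHomologicalComplex (ComplexShape.up ℤ)).obj I
  let T := Groth.Agent.Lib.LocCohLC.Supp.ab X
  let A : CochainComplex (CohTop.Ab X.carrier) ℤ := (T.mapHomologicalComplex (ComplexShape.up ℤ)).obj C
  haveI : A.IsStrictlyGE (d : ℤ) := (CochainComplex.isStrictlyGE_iff _ _).2 fun i hi =>
    T.map_isZero ((DCoh.gammaZ j).map_isZero (CochainComplex.isZero_of_isStrictlyGE I (d : ℤ) i hi))
  have hex : ∀ n, n < 2 * (d : ℤ) → A.ExactAt n := fun n hn =>
    (HomologicalComplex.exactAt_iff _ _).2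
      (((HomologicalComplex.exactAt_iff _ _).1 (exactAt_gammaZ j d hdepth φ hI hKlf n hn)).map T)
  have hfl : ∀ n, TopCat.Sheaf.IsFlasque (A.X n) := fun n => by
    haveI := hI n
    haveI := Groth.Agent.Lib.InjMod.injective_gammaZ j (I.X n)
    exact CohDelta.Flasque.isFlasque_toAb ((DCoh.gammaZ j).obj (I.X n))
  obtain ⟨e⟩ := Flasque.nonempty_iso A (d : ℤ) (2 * (d : ℤ)) hex hfl (⊤ : X.Opens)
  let e₁ : (((CxOX.sectZAb j).mapHomologicalComplex (ComplexShape.up ℤ)).obj I) ≅
      ((Flasque.sec (T := X.carrier) (⊤ : X.Opens)).mapHomologicalComplex (ComplexShape.up ℤ)).obj A :=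
    HomologicalComplex.Hom.isoOfComponents (fun _ => Iso.refl _)
      (fun _ _ _ => (Category.id_comp _).trans (Category.comp_id _).symm)
  exact ⟨((Flasque.sec (T := X.carrier) (⊤ : X.Opens)).mapIso
      ((C.sc (2 * (d : ℤ))).mapHomologyIso T)).symm ≪≫ e.symm ≪≫
    ((HomologicalComplex.homologyFunctor _ _ (2 * (d : ℤ))).mapIso e₁).symm⟩

end Groth.Agent.Lib.LocCxDepth77.SheafLevel
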